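import Groth.Agent.CohLib.OverCoh
import Groth.Agent.BigEtLib.Compare
import Groth.Prelude.Def_CohSite
import Mathlib.CategoryTheory.Limits.Constructions.LimitsOfProductsAndEqualizers
import Mathlib.CategoryTheory.Limits.Constructions.Over.Connected
import Mathlib.CategoryTheory.Limits.Constructions.Over.Basic
import Mathlib.CategoryTheory.Functor.Flat
import Mathlib.CategoryTheory.Sites.Pullback

/-!
# Cohomology along continuous and cocontinuous functors
-/

set_option autoImplicit false
set_option linter.style.haveILetI false
set_option linter.unusedSectionVars false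
set_option backward.isDefEq.respectTransparency false
set_option backward.isDefEq.respectTransparency.types false
universe u

open CategoryTheory CategoryTheory.Limits Opposite

namespace SiteHLib

attribute [local instance] reflectsLimits_of_reflectsIsomorphisms

/-- The image of the terminal object of a localisation. -/
noncomputable def postTopIso {C D : Type u} [SmallCategory C] [SmallCategory D] (u : C ⥤ D) (U : C) :
    (Over.post (X := U) u).obj (Over.mk (𝟙 U)) ≅ Over.mk (𝟙 (u.obj U)) :=
  Over.isoMk (Iso.refl _) (by simp; exact (u.map_id U).symm)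

variable {C D : Type u} [SmallCategory C] [SmallCategory D]
  (J : GrothendieckTopology C) (K : GrothendieckTopology D) (u : C ⥤ D) [u.IsContinuous J K]

theorem preservesHomology_push [u.IsCocontinuous J K] : (CohSite.push K J u).PreservesHomology := by
  haveI : PreservesLimitsOfSize.{0, 0} (CohSite.push K J u) :=
    (u.sheafAdjunctionContinuous AddCommGrpCat.{u} J K).rightAdjoint_preservesLimits
  haveI : PreservesColimitsOfSize.{0, 0} (CohSite.push K J u) :=
    (u.sheafAdjunctionCocontinuous AddCommGrpCat.{u} J K).leftAdjoint_preservesColimits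
  haveI : PreservesFiniteLimits (CohSite.push K J u) := PreservesLimitsOfSize.preservesFiniteLimits _
  haveI : PreservesFiniteColimits (CohSite.push K J u) := PreservesColimitsOfSize.preservesFiniteColimits _
  infer_instance

theorem preservesInjective_push [RepresentablyFlat u] : (CohSite.push K J u).PreservesInjectiveObjects := by
  haveI : PreservesFiniteLimits (u.op.lan : (Cᵒᵖ ⥤ AddCommGrpCat.{u}) ⥤ (Dᵒᵖ ⥤ AddCommGrpCat.{u})) :=
    lan_preservesFiniteLimits_of_flat (E := AddCommGrpCat.{u}) u
  haveI : PreservesFiniteLimits (u.sheafPullback AddCommGrpCat.{u} J K) :=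
    Functor.sheafPullbackConstruction.preservesFiniteLimits u AddCommGrpCat.{u} J K
  exact Functor.preservesInjectiveObjects_of_adjunction_of_preservesMonomorphisms
    (u.sheafAdjunctionContinuous AddCommGrpCat.{u} J K)

/-- Global cohomology along a flat continuous cocontinuous functor. -/
theorem nonempty_H_push [RepresentablyFlat u] [u.IsCocontinuous J K] {T : C} (hT : IsTerminal T) {T' : D}
    (hT' : IsTerminal T') (i : u.obj T ≅ T') (F : Sheaf K AddCommGrpCat.{u}) (p : ℕ) :
    Nonempty (Sheaf.H ((CohSite.push K J u).obj F) p ≃+ Sheaf.H F p) := by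
  haveI := preservesHomology_push J K u
  haveI := preservesInjective_push J K u
  let R := CohSite.push K J u
  let eB := fun (M : Sheaf K AddCommGrpCat.{u}) =>
    (BigEtLib.homEquivTop K hT' M).trans (M.obj.mapIso i.op).addCommGroupIsoToAddEquiv
  let eS := fun (M : Sheaf J AddCommGrpCat.{u}) => BigEtLib.homEquivTop J hT M
  obtain ⟨e⟩ := BigEtLib.nonempty_ext_equiv R (fun M => (eB M).trans (eS (R.obj M)).symm) (fun {M M'} g x => by
    apply (eS (R.obj M')).injective
    refine ((eS _).apply_symm_apply _).trans ?_
    refine (congrArg (M'.obj.map i.hom.op) (BigEtLib.homEquivTop_comp K hT' g x)).trans ?_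
    refine ((NatTrans.naturality_apply g.hom i.hom.op _).symm).trans ?_
    refine Eq.trans ?_ (BigEtLib.homEquivTop_comp J hT (R.map g)
      (((eB M).trans (eS (R.obj M)).symm) x)).symm
    exact (congrArg ((R.map g).hom.app (op T)) ((eS _).apply_symm_apply (eB M x))).symm) F p
  exact ⟨e.symm⟩

variable [HasPullbacks C] [PreservesLimitsOfShape WalkingCospan u]

theorem flat_post (U : C) : RepresentablyFlat (Over.post (X := U) u) := by
  haveI : HasFiniteLimits (Over U) := hasFiniteLimits_of_hasTerminal_and_pullbacks
  haveI : PreservesLimitsOfShape WalkingCospan (Over.post (X := U) u ⋙ Over.forget (u.obj U)) :=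
    inferInstanceAs (PreservesLimitsOfShape WalkingCospan (Over.forget U ⋙ u))
  haveI : PreservesLimitsOfShape WalkingCospan (Over.post (X := U) u) :=
    preservesLimitsOfShape_of_reflects_of_preserves _ (Over.forget (u.obj U))
  haveI : PreservesLimit (Functor.empty.{0} (Over U)) (Over.post (X := U) u) :=
    preservesTerminal_of_iso _ ((Over.post (X := U) u).mapIso (terminalIsTerminal.uniqueUpToIso (Over.mkIdTerminal (X := U))) ≪≫
      postTopIso u U ≪≫ (Over.mkIdTerminal (X := u.obj U)).uniqueUpToIso terminalIsTerminal)
  haveI : PreservesLimitsOfShape (Discrete PEmpty.{1}) (Over.post (X := U) u) :=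
    preservesLimitsOfShape_pempty_of_preservesTerminal _
  haveI : PreservesFiniteLimits (Over.post (X := U) u) :=
    preservesFiniteLimits_of_preservesTerminal_and_pullbacks _
  exact flat_of_preservesFiniteLimits _

theorem isContinuous_post (hu : CoverPreserving J K u) (U : C) :
    (Over.post (X := U) u).IsContinuous (J.over U) (K.over (u.obj U)) :=
  haveI := flat_post u U
  Functor.isContinuous_of_coverPreserving (compatiblePreservingOfFlat _ _) (CoverPreserving.overPost U hu)

theorem subsingleton_HU_push_injective (hu : CoverPreserving J K u)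
    (I : Sheaf K AddCommGrpCat.{u}) [Injective I] (U : C) (p : ℕ) :
    Subsingleton (CohSite.HU ((CohSite.push K J u).obj I) (p + 1) U) := by
  haveI := flat_post u U
  haveI := isContinuous_post J K u hu U
  haveI := preservesInjective_push (J.over U) (K.over (u.obj U)) (Over.post (X := U) u)
  haveI : Injective ((CohLib.restrOver K (u.obj U)).obj I) := CohLib.injective_restrOver K (u.obj U) I
  haveI hI : Injective ((CohLib.restrOver J U).obj ((CohSite.push K J u).obj I)) :=
    inferInstanceAs (Injective ((CohSite.push (K.over (u.obj U)) (J.over U) (Over.post (X := U) u)).obj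
      ((CohLib.restrOver K (u.obj U)).obj I)))
  obtain ⟨e⟩ := CohLib.nonempty_HU_equiv_H J U ((CohSite.push K J u).obj I) (p + 1)
  haveI : Subsingleton (Sheaf.H.{u} ((CohLib.restrOver J U).obj ((CohSite.push K J u).obj I)) (p + 1)) :=
    ⟨fun a b => (Abelian.Ext.eq_zero_of_injective a).trans (Abelian.Ext.eq_zero_of_injective b).symm⟩
  exact e.toEquiv.subsingleton

theorem nonempty_HU_push [u.IsCocontinuous J K] (hu : CoverPreserving J K u)
    (F : Sheaf K AddCommGrpCat.{u}) (U : C) (p : ℕ) :
    Nonempty (CohSite.HU ((CohSite.push K J u).obj F) p U ≃+ CohSite.HU F p (u.obj U)) := by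
  haveI := flat_post u U
  haveI := isContinuous_post J K u hu U
  obtain ⟨e₁⟩ := CohLib.nonempty_HU_equiv_H J U ((CohSite.push K J u).obj F) p
  obtain ⟨e₂⟩ := CohLib.nonempty_HU_equiv_H K (u.obj U) F p
  obtain ⟨e⟩ := nonempty_H_push (J.over U) (K.over (u.obj U)) (Over.post (X := U) u)
    (Over.mkIdTerminal (X := U)) (Over.mkIdTerminal (X := u.obj U)) (postTopIso u U)
    ((CohLib.restrOver K (u.obj U)).obj F) p
  exact ⟨e₁.trans (AddEquiv.trans e e₂.symm)⟩

end SiteHLib
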